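import Cfsg.Agent.Lib.Helper28.V2.ON122760ChkL0
import Cfsg.Agent.Lib.Helper28.V2.ON122760ChkL1
import Cfsg.Agent.Lib.Helper28.V2.ON122760ChkL2
import Cfsg.Agent.Lib.Helper28.V2.ON122760ChkL3
import Cfsg.Agent.Lib.Helper28.V2.ON122760ChkL4
import Cfsg.Agent.Lib.Helper28.V2.ON122760ChkL5
import Cfsg.Agent.Lib.Helper28.V2.ON122760ChkL6
import Cfsg.Agent.Lib.Helper28.V2.ON122760ChkL7
import Cfsg.Agent.Lib.Helper28.V2.ON122760ChkL8

set_option autoImplicit false
set_option maxRecDepth 100000

namespace Cfsg.Agent.Lib.Helper28.V2.ON122760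

theorem lrel_all : ∀ w ∈ Cfsg.Agent.Lib.Helper28.ONPD.pd.words, ∀ c < L.n, L.checkRel w c = true := by
  intro w hw c hc
  have hc' : c < 122760 := hc
  by_cases h0 : c < 3571
  · exact allList_iff.mp (allRange_iff.mp lrel_0 c (by omega) (by omega)) w hw
  by_cases h1 : c < 7142
  · exact allList_iff.mp (allRange_iff.mp lrel_1 c (by omega) (by omega)) w hw
  by_cases h2 : c < 10713
  · exact allList_iff.mp (allRange_iff.mp lrel_2 c (by omega) (by omega)) w hw
  by_cases h3 : c < 14284
  · exact allList_iff.mp (allRange_iff.mp lrel_3 c (by omega) (by omega)) w hw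
  by_cases h4 : c < 17855
  · exact allList_iff.mp (allRange_iff.mp lrel_4 c (by omega) (by omega)) w hw
  by_cases h5 : c < 21426
  · exact allList_iff.mp (allRange_iff.mp lrel_5 c (by omega) (by omega)) w hw
  by_cases h6 : c < 24997
  · exact allList_iff.mp (allRange_iff.mp lrel_6 c (by omega) (by omega)) w hw
  by_cases h7 : c < 28568
  · exact allList_iff.mp (allRange_iff.mp lrel_7 c (by omega) (by omega)) w hw
  by_cases h8 : c < 32139
  · exact allList_iff.mp (allRange_iff.mp lrel_8 c (by omega) (by omega)) w hw
  by_cases h9 : c < 35710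
  · exact allList_iff.mp (allRange_iff.mp lrel_9 c (by omega) (by omega)) w hw
  by_cases h10 : c < 39281
  · exact allList_iff.mp (allRange_iff.mp lrel_10 c (by omega) (by omega)) w hw
  by_cases h11 : c < 42852
  · exact allList_iff.mp (allRange_iff.mp lrel_11 c (by omega) (by omega)) w hw
  by_cases h12 : c < 46423
  · exact allList_iff.mp (allRange_iff.mp lrel_12 c (by omega) (by omega)) w hw
  by_cases h13 : c < 49994
  · exact allList_iff.mp (allRange_iff.mp lrel_13 c (by omega) (by omega)) w hw
  by_cases h14 : c < 53565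
  · exact allList_iff.mp (allRange_iff.mp lrel_14 c (by omega) (by omega)) w hw
  by_cases h15 : c < 57136
  · exact allList_iff.mp (allRange_iff.mp lrel_15 c (by omega) (by omega)) w hw
  by_cases h16 : c < 60707
  · exact allList_iff.mp (allRange_iff.mp lrel_16 c (by omega) (by omega)) w hw
  by_cases h17 : c < 64278
  · exact allList_iff.mp (allRange_iff.mp lrel_17 c (by omega) (by omega)) w hw
  by_cases h18 : c < 67849
  · exact allList_iff.mp (allRange_iff.mp lrel_18 c (by omega) (by omega)) w hw
  by_cases h19 : c < 71420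
  · exact allList_iff.mp (allRange_iff.mp lrel_19 c (by omega) (by omega)) w hw
  by_cases h20 : c < 74991
  · exact allList_iff.mp (allRange_iff.mp lrel_20 c (by omega) (by omega)) w hw
  by_cases h21 : c < 78562
  · exact allList_iff.mp (allRange_iff.mp lrel_21 c (by omega) (by omega)) w hw
  by_cases h22 : c < 82133
  · exact allList_iff.mp (allRange_iff.mp lrel_22 c (by omega) (by omega)) w hw
  by_cases h23 : c < 85704
  · exact allList_iff.mp (allRange_iff.mp lrel_23 c (by omega) (by omega)) w hw
  by_cases h24 : c < 89275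
  · exact allList_iff.mp (allRange_iff.mp lrel_24 c (by omega) (by omega)) w hw
  by_cases h25 : c < 92846
  · exact allList_iff.mp (allRange_iff.mp lrel_25 c (by omega) (by omega)) w hw
  by_cases h26 : c < 96417
  · exact allList_iff.mp (allRange_iff.mp lrel_26 c (by omega) (by omega)) w hw
  by_cases h27 : c < 99988
  · exact allList_iff.mp (allRange_iff.mp lrel_27 c (by omega) (by omega)) w hw
  by_cases h28 : c < 103559
  · exact allList_iff.mp (allRange_iff.mp lrel_28 c (by omega) (by omega)) w hw
  by_cases h29 : c < 107130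
  · exact allList_iff.mp (allRange_iff.mp lrel_29 c (by omega) (by omega)) w hw
  by_cases h30 : c < 110701
  · exact allList_iff.mp (allRange_iff.mp lrel_30 c (by omega) (by omega)) w hw
  by_cases h31 : c < 114272
  · exact allList_iff.mp (allRange_iff.mp lrel_31 c (by omega) (by omega)) w hw
  by_cases h32 : c < 117843
  · exact allList_iff.mp (allRange_iff.mp lrel_32 c (by omega) (by omega)) w hw
  by_cases h33 : c < 121414
  · exact allList_iff.mp (allRange_iff.mp lrel_33 c (by omega) (by omega)) w hw
  by_cases h34 : c < 122760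
  · exact allList_iff.mp (allRange_iff.mp lrel_34 c (by omega) (by omega)) w hw
  omega

end Cfsg.Agent.Lib.Helper28.V2.ON122760
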