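import Cfsg.Agent.Lib.Helper28.V2.ON122760ChkU0
import Cfsg.Agent.Lib.Helper28.V2.ON122760ChkU1
import Cfsg.Agent.Lib.Helper28.V2.ON122760ChkU2
import Cfsg.Agent.Lib.Helper28.V2.ON122760ChkU3
import Cfsg.Agent.Lib.Helper28.V2.ON122760ChkU4
import Cfsg.Agent.Lib.Helper28.V2.ON122760ChkU5
import Cfsg.Agent.Lib.Helper28.V2.ON122760ChkU6
import Cfsg.Agent.Lib.Helper28.V2.ON122760ChkU7
import Cfsg.Agent.Lib.Helper28.V2.ON122760ChkU8
import Cfsg.Agent.Lib.Helper28.V2.ON122760ChkU9
import Cfsg.Agent.Lib.Helper28.V2.ON122760ChkU10
import Cfsg.Agent.Lib.Helper28.V2.ON122760ChkU11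
import Cfsg.Agent.Lib.Helper28.V2.ON122760ChkU12
import Cfsg.Agent.Lib.Helper28.V2.ON122760ChkU13
import Cfsg.Agent.Lib.Helper28.V2.ON122760ChkU14
import Cfsg.Agent.Lib.Helper28.V2.ON122760Data

set_option autoImplicit false
set_option maxRecDepth 100000

namespace Cfsg.Agent.Lib.Helper28.V2.ON122760

theorem fin_all : allBelow D.finalLabel 193748 = true := by decide +kernel
theorem live_count : D.liveCount = 122760 := by decide +kernel
theorem pairs_ok : Q.pairsC.all (pairOK (relsAll Q.relW Q.invA Q.Kall) Q.invA Q.P.K Q.Kall) = true := by decide +kernel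
theorem relsK_ok : ∀ r ∈ relsAll Q.relW Q.invA Q.Kall, ∀ y ∈ r, y < Q.Kall := by decide +kernel
theorem h0_ok : D.tg D.K 0 = 0 := by decide +kernel
theorem point_ok : allBelow L.checkPoint 122760 = true := by decide +kernel
theorem tree_ok : allBelow L.checkTree 122760 = true := by decide +kernel
theorem lsub_ok : ∀ E ∈ Q.subE, ptrace Q.L.pt (E.word Q.P.inv) 0 = 1 := by decide +kernel
theorem check_all : ∀ c < D.m, D.checkLabel c = true := by
  intro c hc
  have hc' : c < 193748 := hc
  by_cases h0 : c < 1500
  · exact allRange_iff.mp chk_0 c (by omega) (by omega)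
  by_cases h1 : c < 3000
  · exact allRange_iff.mp chk_1 c (by omega) (by omega)
  by_cases h2 : c < 4500
  · exact allRange_iff.mp chk_2 c (by omega) (by omega)
  by_cases h3 : c < 6000
  · exact allRange_iff.mp chk_3 c (by omega) (by omega)
  by_cases h4 : c < 7500
  · exact allRange_iff.mp chk_4 c (by omega) (by omega)
  by_cases h5 : c < 9000
  · exact allRange_iff.mp chk_5 c (by omega) (by omega)
  by_cases h6 : c < 10500
  · exact allRange_iff.mp chk_6 c (by omega) (by omega)
  by_cases h7 : c < 12000
  · exact allRange_iff.mp chk_7 c (by omega) (by omega)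
  by_cases h8 : c < 13500
  · exact allRange_iff.mp chk_8 c (by omega) (by omega)
  by_cases h9 : c < 15000
  · exact allRange_iff.mp chk_9 c (by omega) (by omega)
  by_cases h10 : c < 16500
  · exact allRange_iff.mp chk_10 c (by omega) (by omega)
  by_cases h11 : c < 18000
  · exact allRange_iff.mp chk_11 c (by omega) (by omega)
  by_cases h12 : c < 19500
  · exact allRange_iff.mp chk_12 c (by omega) (by omega)
  by_cases h13 : c < 21000
  · exact allRange_iff.mp chk_13 c (by omega) (by omega)
  by_cases h14 : c < 22500
  · exact allRange_iff.mp chk_14 c (by omega) (by omega)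
  by_cases h15 : c < 24000
  · exact allRange_iff.mp chk_15 c (by omega) (by omega)
  by_cases h16 : c < 25500
  · exact allRange_iff.mp chk_16 c (by omega) (by omega)
  by_cases h17 : c < 27000
  · exact allRange_iff.mp chk_17 c (by omega) (by omega)
  by_cases h18 : c < 28500
  · exact allRange_iff.mp chk_18 c (by omega) (by omega)
  by_cases h19 : c < 30000
  · exact allRange_iff.mp chk_19 c (by omega) (by omega)
  by_cases h20 : c < 31500
  · exact allRange_iff.mp chk_20 c (by omega) (by omega)
  by_cases h21 : c < 33000
  · exact allRange_iff.mp chk_21 c (by omega) (by omega)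
  by_cases h22 : c < 34500
  · exact allRange_iff.mp chk_22 c (by omega) (by omega)
  by_cases h23 : c < 36000
  · exact allRange_iff.mp chk_23 c (by omega) (by omega)
  by_cases h24 : c < 37500
  · exact allRange_iff.mp chk_24 c (by omega) (by omega)
  by_cases h25 : c < 39000
  · exact allRange_iff.mp chk_25 c (by omega) (by omega)
  by_cases h26 : c < 40500
  · exact allRange_iff.mp chk_26 c (by omega) (by omega)
  by_cases h27 : c < 42000
  · exact allRange_iff.mp chk_27 c (by omega) (by omega)
  by_cases h28 : c < 43500
  · exact allRange_iff.mp chk_28 c (by omega) (by omega)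
  by_cases h29 : c < 45000
  · exact allRange_iff.mp chk_29 c (by omega) (by omega)
  by_cases h30 : c < 46500
  · exact allRange_iff.mp chk_30 c (by omega) (by omega)
  by_cases h31 : c < 48000
  · exact allRange_iff.mp chk_31 c (by omega) (by omega)
  by_cases h32 : c < 49500
  · exact allRange_iff.mp chk_32 c (by omega) (by omega)
  by_cases h33 : c < 51000
  · exact allRange_iff.mp chk_33 c (by omega) (by omega)
  by_cases h34 : c < 52500
  · exact allRange_iff.mp chk_34 c (by omega) (by omega)
  by_cases h35 : c < 54000
  · exact allRange_iff.mp chk_35 c (by omega) (by omega)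
  by_cases h36 : c < 55500
  · exact allRange_iff.mp chk_36 c (by omega) (by omega)
  by_cases h37 : c < 57000
  · exact allRange_iff.mp chk_37 c (by omega) (by omega)
  by_cases h38 : c < 58500
  · exact allRange_iff.mp chk_38 c (by omega) (by omega)
  by_cases h39 : c < 60000
  · exact allRange_iff.mp chk_39 c (by omega) (by omega)
  by_cases h40 : c < 61500
  · exact allRange_iff.mp chk_40 c (by omega) (by omega)
  by_cases h41 : c < 63000
  · exact allRange_iff.mp chk_41 c (by omega) (by omega)
  by_cases h42 : c < 64500
  · exact allRange_iff.mp chk_42 c (by omega) (by omega)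
  by_cases h43 : c < 66000
  · exact allRange_iff.mp chk_43 c (by omega) (by omega)
  by_cases h44 : c < 67500
  · exact allRange_iff.mp chk_44 c (by omega) (by omega)
  by_cases h45 : c < 69000
  · exact allRange_iff.mp chk_45 c (by omega) (by omega)
  by_cases h46 : c < 70500
  · exact allRange_iff.mp chk_46 c (by omega) (by omega)
  by_cases h47 : c < 72000
  · exact allRange_iff.mp chk_47 c (by omega) (by omega)
  by_cases h48 : c < 73500
  · exact allRange_iff.mp chk_48 c (by omega) (by omega)
  by_cases h49 : c < 75000
  · exact allRange_iff.mp chk_49 c (by omega) (by omega)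
  by_cases h50 : c < 76500
  · exact allRange_iff.mp chk_50 c (by omega) (by omega)
  by_cases h51 : c < 78000
  · exact allRange_iff.mp chk_51 c (by omega) (by omega)
  by_cases h52 : c < 79500
  · exact allRange_iff.mp chk_52 c (by omega) (by omega)
  by_cases h53 : c < 81000
  · exact allRange_iff.mp chk_53 c (by omega) (by omega)
  by_cases h54 : c < 82500
  · exact allRange_iff.mp chk_54 c (by omega) (by omega)
  by_cases h55 : c < 84000
  · exact allRange_iff.mp chk_55 c (by omega) (by omega)
  by_cases h56 : c < 85500
  · exact allRange_iff.mp chk_56 c (by omega) (by omega)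
  by_cases h57 : c < 87000
  · exact allRange_iff.mp chk_57 c (by omega) (by omega)
  by_cases h58 : c < 88500
  · exact allRange_iff.mp chk_58 c (by omega) (by omega)
  by_cases h59 : c < 90000
  · exact allRange_iff.mp chk_59 c (by omega) (by omega)
  by_cases h60 : c < 91500
  · exact allRange_iff.mp chk_60 c (by omega) (by omega)
  by_cases h61 : c < 93000
  · exact allRange_iff.mp chk_61 c (by omega) (by omega)
  by_cases h62 : c < 94500
  · exact allRange_iff.mp chk_62 c (by omega) (by omega)
  by_cases h63 : c < 96000
  · exact allRange_iff.mp chk_63 c (by omega) (by omega)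
  by_cases h64 : c < 97500
  · exact allRange_iff.mp chk_64 c (by omega) (by omega)
  by_cases h65 : c < 99000
  · exact allRange_iff.mp chk_65 c (by omega) (by omega)
  by_cases h66 : c < 100500
  · exact allRange_iff.mp chk_66 c (by omega) (by omega)
  by_cases h67 : c < 102000
  · exact allRange_iff.mp chk_67 c (by omega) (by omega)
  by_cases h68 : c < 103500
  · exact allRange_iff.mp chk_68 c (by omega) (by omega)
  by_cases h69 : c < 105000
  · exact allRange_iff.mp chk_69 c (by omega) (by omega)
  by_cases h70 : c < 106500
  · exact allRange_iff.mp chk_70 c (by omega) (by omega)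
  by_cases h71 : c < 108000
  · exact allRange_iff.mp chk_71 c (by omega) (by omega)
  by_cases h72 : c < 109500
  · exact allRange_iff.mp chk_72 c (by omega) (by omega)
  by_cases h73 : c < 111000
  · exact allRange_iff.mp chk_73 c (by omega) (by omega)
  by_cases h74 : c < 112500
  · exact allRange_iff.mp chk_74 c (by omega) (by omega)
  by_cases h75 : c < 114000
  · exact allRange_iff.mp chk_75 c (by omega) (by omega)
  by_cases h76 : c < 115500
  · exact allRange_iff.mp chk_76 c (by omega) (by omega)
  by_cases h77 : c < 117000
  · exact allRange_iff.mp chk_77 c (by omega) (by omega)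
  by_cases h78 : c < 118500
  · exact allRange_iff.mp chk_78 c (by omega) (by omega)
  by_cases h79 : c < 120000
  · exact allRange_iff.mp chk_79 c (by omega) (by omega)
  by_cases h80 : c < 121500
  · exact allRange_iff.mp chk_80 c (by omega) (by omega)
  by_cases h81 : c < 123000
  · exact allRange_iff.mp chk_81 c (by omega) (by omega)
  by_cases h82 : c < 124500
  · exact allRange_iff.mp chk_82 c (by omega) (by omega)
  by_cases h83 : c < 126000
  · exact allRange_iff.mp chk_83 c (by omega) (by omega)
  by_cases h84 : c < 127500
  · exact allRange_iff.mp chk_84 c (by omega) (by omega)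
  by_cases h85 : c < 129000
  · exact allRange_iff.mp chk_85 c (by omega) (by omega)
  by_cases h86 : c < 130500
  · exact allRange_iff.mp chk_86 c (by omega) (by omega)
  by_cases h87 : c < 132000
  · exact allRange_iff.mp chk_87 c (by omega) (by omega)
  by_cases h88 : c < 133500
  · exact allRange_iff.mp chk_88 c (by omega) (by omega)
  by_cases h89 : c < 135000
  · exact allRange_iff.mp chk_89 c (by omega) (by omega)
  by_cases h90 : c < 136500
  · exact allRange_iff.mp chk_90 c (by omega) (by omega)
  by_cases h91 : c < 138000
  · exact allRange_iff.mp chk_91 c (by omega) (by omega)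
  by_cases h92 : c < 139500
  · exact allRange_iff.mp chk_92 c (by omega) (by omega)
  by_cases h93 : c < 141000
  · exact allRange_iff.mp chk_93 c (by omega) (by omega)
  by_cases h94 : c < 142500
  · exact allRange_iff.mp chk_94 c (by omega) (by omega)
  by_cases h95 : c < 144000
  · exact allRange_iff.mp chk_95 c (by omega) (by omega)
  by_cases h96 : c < 145500
  · exact allRange_iff.mp chk_96 c (by omega) (by omega)
  by_cases h97 : c < 147000
  · exact allRange_iff.mp chk_97 c (by omega) (by omega)
  by_cases h98 : c < 148500
  · exact allRange_iff.mp chk_98 c (by omega) (by omega)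
  by_cases h99 : c < 150000
  · exact allRange_iff.mp chk_99 c (by omega) (by omega)
  by_cases h100 : c < 151500
  · exact allRange_iff.mp chk_100 c (by omega) (by omega)
  by_cases h101 : c < 153000
  · exact allRange_iff.mp chk_101 c (by omega) (by omega)
  by_cases h102 : c < 154500
  · exact allRange_iff.mp chk_102 c (by omega) (by omega)
  by_cases h103 : c < 156000
  · exact allRange_iff.mp chk_103 c (by omega) (by omega)
  by_cases h104 : c < 157500
  · exact allRange_iff.mp chk_104 c (by omega) (by omega)
  by_cases h105 : c < 159000
  · exact allRange_iff.mp chk_105 c (by omega) (by omega)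
  by_cases h106 : c < 160500
  · exact allRange_iff.mp chk_106 c (by omega) (by omega)
  by_cases h107 : c < 162000
  · exact allRange_iff.mp chk_107 c (by omega) (by omega)
  by_cases h108 : c < 163500
  · exact allRange_iff.mp chk_108 c (by omega) (by omega)
  by_cases h109 : c < 165000
  · exact allRange_iff.mp chk_109 c (by omega) (by omega)
  by_cases h110 : c < 166500
  · exact allRange_iff.mp chk_110 c (by omega) (by omega)
  by_cases h111 : c < 168000
  · exact allRange_iff.mp chk_111 c (by omega) (by omega)
  by_cases h112 : c < 169500
  · exact allRange_iff.mp chk_112 c (by omega) (by omega)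
  by_cases h113 : c < 171000
  · exact allRange_iff.mp chk_113 c (by omega) (by omega)
  by_cases h114 : c < 172500
  · exact allRange_iff.mp chk_114 c (by omega) (by omega)
  by_cases h115 : c < 174000
  · exact allRange_iff.mp chk_115 c (by omega) (by omega)
  by_cases h116 : c < 175500
  · exact allRange_iff.mp chk_116 c (by omega) (by omega)
  by_cases h117 : c < 177000
  · exact allRange_iff.mp chk_117 c (by omega) (by omega)
  by_cases h118 : c < 178500
  · exact allRange_iff.mp chk_118 c (by omega) (by omega)
  by_cases h119 : c < 180000
  · exact allRange_iff.mp chk_119 c (by omega) (by omega)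
  by_cases h120 : c < 181500
  · exact allRange_iff.mp chk_120 c (by omega) (by omega)
  by_cases h121 : c < 183000
  · exact allRange_iff.mp chk_121 c (by omega) (by omega)
  by_cases h122 : c < 184500
  · exact allRange_iff.mp chk_122 c (by omega) (by omega)
  by_cases h123 : c < 186000
  · exact allRange_iff.mp chk_123 c (by omega) (by omega)
  by_cases h124 : c < 187500
  · exact allRange_iff.mp chk_124 c (by omega) (by omega)
  by_cases h125 : c < 189000
  · exact allRange_iff.mp chk_125 c (by omega) (by omega)
  by_cases h126 : c < 190500
  · exact allRange_iff.mp chk_126 c (by omega) (by omega)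
  by_cases h127 : c < 192000
  · exact allRange_iff.mp chk_127 c (by omega) (by omega)
  by_cases h128 : c < 193500
  · exact allRange_iff.mp chk_128 c (by omega) (by omega)
  by_cases h129 : c < 193748
  · exact allRange_iff.mp chk_129 c (by omega) (by omega)
  omega

end Cfsg.Agent.Lib.Helper28.V2.ON122760
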