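import Cfsg.Agent.Lib.Helper28.V2.TCSimple
import Cfsg.Agent.Lib.Helper28.TCBase

/-!
# The word problem by base images (helper28)

If the order of a permutation group equals the product of the orbit lengths of a stabiliser chain, an
element fixing all base points is trivial.
-/

set_option autoImplicit false

namespace Cfsg.Agent.Lib.Helper28.V2

namespace Prob

variable {α : Type} [DecidableEq α] {Q : Prob α} {S : Set (FreeGroup α)}

/-- an element fixing the base is trivial -/
theorem OK.eq_one_of_base (h : Q.OK S) (hinj : Function.Injective (phi h)) (N : ℕ) (hN : 0 < N)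
    (hcard : Nat.card Q.Grp = N) (levels : List Lev) (hchain : chainOK Q.L [] levels)
    (hprod : (levels.map Lev.cnt).prod = N) (g : Q.Grp)
    (hg : ∀ b ∈ levels.map Lev.b, phi h g b = b) : g = 1 := by
  have hfin : Finite Q.Grp := Nat.finite_of_card_ne_zero (by omega)
  have hf : Finite (phi h).range := Finite.of_surjective _ (phi h).rangeRestrict_surjective
  have h1 := h.valid.card_ge' levels [] (phi h).range hf (by simp) (by
    intro u hu _
    refine ⟨(evalW Q.val u)⁻¹, ?_⟩
    rw [map_inv, h.phi_evalW u (fun y hy => by rw [← h.LK]; exact hu y hy)]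
    rfl) hchain
  have h2 : Nat.card (phi h).range ≤ N := by
    rw [← hcard]
    exact Nat.card_le_card_of_surjective _ (phi h).rangeRestrict_surjective
  rw [hprod] at h1
  have h3 : Nat.card (fixB (phi h).range (levels.map Lev.b)) ≤ 1 := by
    by_contra hcon
    have : N * 2 ≤ N * Nat.card (fixB (phi h).range (levels.map Lev.b)) :=
      Nat.mul_le_mul_left _ (by omega)
    omega
  have h4 : phi h g ∈ fixB (phi h).range (levels.map Lev.b) := mem_fixB ⟨g, rfl⟩ hg
  have hle : ∀ (A : Subgroup (Equiv.Perm ℕ)) (bs : List ℕ), fixB A bs ≤ A := by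
    intro A bs
    induction bs generalizing A with
    | nil => exact le_refl _
    | cons b bs ih => exact le_trans (ih _) inf_le_left
  have hf2 : Finite (fixB (phi h).range (levels.map Lev.b)) :=
    Finite.of_injective _ (Subgroup.inclusion_injective (hle _ _))
  have h5 : Subsingleton (fixB (phi h).range (levels.map Lev.b)) :=
    (Finite.card_le_one_iff_subsingleton).mp h3
  have h6 : (⟨phi h g, h4⟩ : fixB (phi h).range (levels.map Lev.b)) = 1 := Subsingleton.elim _ _
  apply hinj
  rw [map_one]
  exact congrArg Subtype.val h6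

/-- a word fixing the base is trivial -/
theorem OK.word_eq_one_of_base (h : Q.OK S) (hinj : Function.Injective (phi h)) (N : ℕ) (hN : 0 < N)
    (hcard : Nat.card Q.Grp = N) (levels : List Lev) (hchain : chainOK Q.L [] levels)
    (hprod : (levels.map Lev.cnt).prod = N) (hb : ∀ b ∈ levels.map Lev.b, b < Q.n) (w : List ℕ)
    (hw : ∀ y ∈ w, y < Q.P.K)
    (hchk : ∀ b ∈ levels.map Lev.b, ptrace Q.L.pt w b = b + 1) : evalW Q.val w = 1 := by
  rw [← inv_eq_one]
  apply h.eq_one_of_base hinj N hN hcard levels hchain hprod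
  intro b hbm
  rw [h.phi_word w hw]
  have h1 := hchk b hbm
  rw [h.valid.ptrace_eq w (fun y hy => by rw [h.LK]; exact hw y hy) (by rw [h.Ln]; exact hb b hbm)] at h1
  omega

/-- a word moving a point is not trivial -/
theorem OK.word_ne_one (h : Q.OK S) (w : List ℕ) (hw : ∀ y ∈ w, y < Q.P.K) (c : ℕ) (hc : c < Q.n)
    (hchk : ptrace Q.L.pt w c ≠ c + 1) : evalW Q.val w ≠ 1 := by
  intro he
  apply hchk
  rw [h.valid.ptrace_eq w (fun y hy => by rw [h.LK]; exact hw y hy) (by rw [h.Ln]; exact hc),
    ← h.phi_word w hw, he, inv_one, map_one, Equiv.Perm.one_apply]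

end Prob

end Cfsg.Agent.Lib.Helper28.V2
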