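import Cfsg.Agent.Lib.Helper28.V2.TCOrbit
import Cfsg.Agent.Lib.Helper28.TCChain
import Cfsg.Agent.Lib.Helper28.TCStab

/-!
# Order and simplicity of a presented group from certificates (helper28)
-/

set_option autoImplicit false

namespace Cfsg.Agent.Lib.Helper28.V2

/-- order and faithfulness from an upper bound for the group and a lower bound for the image -/
theorem order_of_bounds {G G' : Type*} [Group G] [Group G'] (φ : G →* G') (N : ℕ) (hfin : Finite G)
    (hub : Nat.card G ≤ N) (hlb : N ≤ Nat.card φ.range) :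
    Nat.card G = N ∧ Function.Injective φ := by
  have h1 : Nat.card φ.range ≤ Nat.card G :=
    Nat.card_le_card_of_surjective _ φ.rangeRestrict_surjective
  have h2 : Nat.card G = Nat.card φ.range := by omega
  refine ⟨by omega, ?_⟩
  have h3 : Function.Bijective φ.rangeRestrict :=
    (Nat.bijective_iff_surjective_and_card _).mpr ⟨φ.rangeRestrict_surjective, h2⟩
  intro a b hab
  apply h3.1
  exact Subtype.ext hab

/-- a simplicity criterion -/
theorem simple_of_normal_dichotomy {G : Type*} [Group G] (H : Subgroup G) (p k j : ℕ)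
    (hp : p.Prime)
    (hcore : ∀ M : Subgroup G, M.Normal → M ≤ H → M = ⊥)
    (hprim : ∀ M : Subgroup G, M.Normal → M ≤ H ∨ H.index ∣ Nat.card M)
    (hpk : p ^ k ∣ H.index) (hN : ¬ p ^ (k + 1) ∣ Nat.card G)
    (x : G) (hx : x ^ (p ^ j) = 1) (hnc : Subgroup.normalClosure {x} = ⊤) (hnt : Nontrivial G) :
    IsSimpleGroup G := by
  refine { exists_pair_ne := hnt.exists_pair_ne, eq_bot_or_eq_top_of_normal := ?_ }
  intro M hM
  by_cases hMH : M ≤ H
  · left; exact hcore M hM hMH
  · right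
    have hdvd : H.index ∣ Nat.card M := (hprim M hM).resolve_left hMH
    have h1 : p ^ k ∣ Nat.card M := dvd_trans hpk hdvd
    have h2 : Nat.card M * M.index = Nat.card G := M.card_mul_index
    have h3 : ¬ p ∣ M.index := by
      intro h
      apply hN
      rw [← h2, pow_succ]
      exact Nat.mul_dvd_mul h1 h
    have hxM : x ∈ M := by
      have h4 : ((x : G) : G ⧸ M) = 1 := by
        have o1 : orderOf ((x : G) : G ⧸ M) ∣ p ^ j :=
          orderOf_dvd_of_pow_eq_one (by rw [← QuotientGroup.mk_pow, hx]; rfl)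
        have o2 : orderOf ((x : G) : G ⧸ M) ∣ M.index := orderOf_dvd_natCard _
        have o3 : Nat.Coprime (p ^ j) M.index :=
          Nat.Coprime.pow_left _ ((Nat.Prime.coprime_iff_not_dvd hp).mpr h3)
        have o4 : orderOf ((x : G) : G ⧸ M) = 1 := Nat.eq_one_of_dvd_coprimes o3 o1 o2
        exact orderOf_eq_one_iff.mp o4
      exact (QuotientGroup.eq_one_iff x).mp h4
    have h5 : Subgroup.normalClosure {x} ≤ M := Subgroup.normalClosure_le_normal (by simpa using hxM)
    rw [hnc] at h5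
    exact top_le_iff.mp h5

theorem Orb.count_eq {α : Type} [DecidableEq α] (O : Orb) (Q : Prob α) (k : ℕ) :
    O.count Q k = ((Finset.range Q.n).filter (fun c => O.oid c = k)).card := by
  unfold Orb.count
  rw [countZero_eq, zero_add]
  congr 1
  ext c
  simp only [Finset.mem_filter, Finset.mem_range]
  constructor
  · rintro ⟨a, b⟩
    exact ⟨a, Nat.xor_eq_zero_iff.mp b⟩
  · rintro ⟨a, b⟩
    exact ⟨a, by rw [b]; exact Nat.xor_self k⟩

namespace Prob

variable {α : Type} [DecidableEq α] {Q : Prob α} {S : Set (FreeGroup α)}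

theorem OK.val_inv (h : Q.OK S) : ∀ x < Q.P.K, Q.val (Q.P.inv x) = (Q.val x)⁻¹ := by
  intro x hx
  rw [val_lt hx, val_lt (h.pd.inv x hx).1]
  exact h.base.1 x hx

theorem OK.val_words (h : Q.OK S) : ∀ w ∈ Q.P.words, evalW Q.val w = 1 := by
  intro w hw
  exact h.hrels w (by unfold relW; exact List.mem_append_left _ hw)

theorem OK.Sg_top (h : Q.OK S) : Sg Q.val (List.range Q.P.K) = ⊤ := by
  have := h.top
  rw [h.DK] at this
  unfold Sg
  rw [← this]
  congr 2
  ext x
  simp

/-- points outside the range are fixed -/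
theorem OK.phi_ge (h : Q.OK S) (g : Q.Grp) {c : ℕ} (hc : ¬ c < Q.n) : phi h g c = c := by
  let KK : Subgroup Q.Grp :=
    { carrier := {g | ∀ c, ¬ c < Q.n → phi h g c = c}
      one_mem' := by intro c _; simp
      mul_mem' := by
        intro a b ha hb c hc
        rw [map_mul, Equiv.Perm.mul_apply, hb c hc, ha c hc]
      inv_mem' := by
        intro a ha c hc
        rw [map_inv, Equiv.Perm.inv_eq_iff_eq]
        exact (ha c hc).symm }
  have hle : (⊤ : Subgroup Q.Grp) ≤ KK := by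
    rw [← h.top, Subgroup.closure_le]
    rintro _ ⟨x, hx, rfl⟩
    have hx' : x < Q.P.K := by rw [← h.DK]; exact hx
    show Q.val x ∈ KK
    rw [← inv_inv (Q.val x)]
    apply KK.inv_mem
    intro c hc
    have e : Q.val x = evalW Q.val [x] := by simp
    rw [e, h.phi_word [x] (by simpa using hx')]
    exact LB.traceN_ge _ (by rw [h.Ln]; exact hc)
  exact hle (Subgroup.mem_top g) c hc

/-- a normal subgroup inside the point stabiliser lies in the kernel -/
theorem OK.core (h : Q.OK S) (M : Subgroup Q.Grp) (hM : M.Normal) (hMH : M ≤ HS Q S) :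
    ∀ m ∈ M, phi h m = 1 := by
  intro m hm
  ext c
  by_cases hc : c < Q.n
  · obtain ⟨g, rfl⟩ := h.index.2.2.2.2 c hc
    have h1 : g⁻¹ * m * g ∈ M := by
      have := hM.conj_mem m hm g⁻¹
      rwa [inv_inv] at this
    have h2 := h.index.2.2.2.1 _ (hMH h1)
    have e : m * g = g * (g⁻¹ * m * g) := by group
    rw [Equiv.Perm.one_apply, ← Equiv.Perm.mul_apply, ← map_mul, e, map_mul, Equiv.Perm.mul_apply, h2]
  · rw [h.phi_ge m hc]; rfl

/-- words are trivial if they act trivially, for a faithful representation -/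
theorem OK.eq_one_of_check (h : Q.OK S) (hinj : Function.Injective (phi h)) (w : List ℕ)
    (hw : ∀ y ∈ w, y < Q.P.K) (hchk : ∀ c < Q.L.n, Q.L.checkRel w c = true) : evalW Q.val w = 1 := by
  apply hinj
  rw [h.phi_evalW w hw, map_one]
  exact LB.evalW_perm_eq_one h.valid w (fun y hy => by rw [h.LK]; exact hw y hy) hchk

/-- lower bound for the order of the image -/
theorem OK.card_range_ge (h : Q.OK S) (hfin : Finite Q.Grp) (levels : List Lev)
    (hchain : chainOK Q.L [] levels) : (levels.map Lev.cnt).prod ≤ Nat.card (phi h).range := by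
  have hf : Finite (phi h).range := Finite.of_surjective _ (phi h).rangeRestrict_surjective
  refine h.valid.card_ge levels [] (phi h).range hf (by simp) ?_ hchain
  intro u hu _
  refine ⟨(evalW Q.val u)⁻¹, ?_⟩
  rw [map_inv, h.phi_evalW u (fun y hy => by rw [← h.LK]; exact hu y hy)]
  rfl

/-- the normal closure of an element is everything, from a collapsing enumeration -/
theorem OK.normalClosure_top (h : Q.OK S) (xw : List ℕ) (Lk : Link)
    (hLk : Lk.OK (Q.P.words ++ [xw]) Q.P.inv Q.P.K (List.range Q.P.K) []) (hn : Lk.n = 1) :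
    Subgroup.normalClosure {evalW Q.val xw} = ⊤ := by
  set Nc := Subgroup.normalClosure {evalW Q.val xw} with hNc
  let ψ : Q.Grp →* Q.Grp ⧸ Nc := QuotientGroup.mk' Nc
  let v : ℕ → Q.Grp ⧸ Nc := fun y => ψ (Q.val y)
  have hW : ∀ w ∈ Q.P.words ++ [xw], evalW v w = 1 := by
    intro w hw
    rw [← map_evalW ψ Q.val w]
    rcases List.mem_append.mp hw with hw | hw
    · rw [h.val_words w hw, map_one]
    · have e : w = xw := by simpa using hw
      rw [e]
      exact (QuotientGroup.eq_one_iff _).mpr (Subgroup.subset_normalClosure (Set.mem_singleton _))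
  have hoinv : ∀ y < Q.P.K, v (Q.P.inv y) = (v y)⁻¹ := by
    intro y hy
    show ψ (Q.val (Q.P.inv y)) = (ψ (Q.val y))⁻¹
    rw [h.val_inv y hy, map_inv]
  have hB : Finite (Sg v []) := by rw [Sg_nil]; infer_instance
  obtain ⟨_, f2⟩ := hLk.card_le v hW hoinv hB
  have htop : Sg v (List.range Q.P.K) = ⊤ := by
    have h1 : Sg v (List.range Q.P.K) = (Sg Q.val (List.range Q.P.K)).map ψ := by
      unfold Sg
      rw [MonoidHom.map_closure, Set.image_image]
    rw [h1, h.Sg_top, ← MonoidHom.range_eq_map, MonoidHom.range_eq_top]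
    exact QuotientGroup.mk'_surjective Nc
  rw [htop, hn, Sg_nil, Subgroup.card_bot, Subgroup.card_top] at f2
  have h3 : Nc.index = 1 := by
    have h4 : 0 < Nat.card (Q.Grp ⧸ Nc) := by
      have : Finite (Q.Grp ⧸ Nc) := by
        have hf : Finite (⊤ : Subgroup (Q.Grp ⧸ Nc)) := by rw [← htop]; assumption
        exact Finite.of_injective (fun g => (⟨g, Subgroup.mem_top g⟩ : (⊤ : Subgroup (Q.Grp ⧸ Nc))))
          (fun a b hab => congrArg Subtype.val hab)
      exact Nat.card_pos
    have h5 : Nc.index = Nat.card (Q.Grp ⧸ Nc) := rfl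
    omega
  exact Subgroup.index_eq_one.mp h3

variable (O : Orb)

/-- a normal subgroup fixes the base point or is transitive, by arithmetic of the suborbit lengths -/
theorem OK.normal_dichotomy (h : Q.OK S) (hO : O.OK Q) (hS1 : ∀ E ∈ Q.subE, E.value Q.P.lfree ∈ S)
    (r : ℕ) (hoid : ∀ c < Q.n, O.oid c < r)
    (hc0 : O.count Q 0 = 1) (h00 : O.oid 0 = 0) (hsum : ∑ k ∈ Finset.range r, O.count Q k = Q.n)
    (harith : ∀ I ∈ (Finset.range r).powerset, 0 ∈ I → (∑ k ∈ I, O.count Q k) ∣ Q.n →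
      I = {0} ∨ I = Finset.range r)
    (M : Subgroup Q.Grp) (hM : M.Normal) : M ≤ HS Q S ∨ (HS Q S).index ∣ Nat.card M := by
  classical
  have hn : 0 < Q.n := lt_of_le_of_lt (Nat.zero_le _) (h.index.2.2.1 1)
  let q0 : Q.Grp ⧸ HS Q S := ((1 : Q.Grp) : Q.Grp ⧸ HS Q S)
  let B : Set (Q.Grp ⧸ HS Q S) := MulAction.orbit M q0
  have hblock : MulAction.IsBlock Q.Grp B := MulAction.IsBlock.orbit_of_normal q0
  have hq0 : q0 ∈ B := MulAction.mem_orbit_self q0
  have hdvd1 : B.ncard ∣ Q.n := by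
    have := hblock.ncard_dvd_card ⟨q0, hq0⟩
    rwa [show Nat.card (Q.Grp ⧸ HS Q S) = (HS Q S).index from rfl, h.index.1] at this
  have hdvd2 : B.ncard ∣ Nat.card M := by
    rw [← MulAction.index_stabilizer M q0]
    exact Subgroup.index_dvd_card _
  let P : Set ℕ := toPt h '' B
  have hP : ∀ c, c ∈ P ↔ ∃ m ∈ M, phi h m 0 = c := by
    intro c
    constructor
    · rintro ⟨_, ⟨m, rfl⟩, rfl⟩
      refine ⟨m.1, m.2, ?_⟩
      show phi h m.1 0 = toPt h ((m.1 * 1 : Q.Grp) : Q.Grp ⧸ HS Q S)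
      rw [toPt_mk, mul_one]
    · rintro ⟨m, hm, rfl⟩
      refine ⟨(⟨m, hm⟩ : M) • q0, ⟨⟨m, hm⟩, rfl⟩, ?_⟩
      have e : (⟨m, hm⟩ : M) • q0 = ((m * 1 : Q.Grp) : Q.Grp ⧸ HS Q S) := rfl
      rw [e, toPt_mk, mul_one]
  have hinvP : ∀ k ∈ HS Q S, ∀ c ∈ P, phi h k c ∈ P := by
    intro k hk c hc
    obtain ⟨m, hm, rfl⟩ := (hP c).mp hc
    refine (hP _).mpr ⟨k * m * k⁻¹, hM.conj_mem m hm k, ?_⟩
    have e2 : phi h k (phi h m 0) = phi h (k * m * k⁻¹) (phi h k 0) := by
      rw [← Equiv.Perm.mul_apply, ← Equiv.Perm.mul_apply, ← map_mul, ← map_mul]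
      congr 2
      group
    rw [e2, h.index.2.2.2.1 k hk]
  have hroot : ∀ c < Q.n, (c ∈ P ↔ nth O.roots Q.n (O.oid c) ∈ P) := by
    intro c hc
    obtain ⟨k, hk, e⟩ := h.reach O hO hS1 _ c rfl hc
    constructor
    · intro hcP
      have := hinvP k⁻¹ (Subgroup.inv_mem _ hk) c hcP
      rwa [← e, ← Equiv.Perm.mul_apply, ← map_mul, inv_mul_cancel, map_one, Equiv.Perm.one_apply] at this
    · intro hr
      rw [← e]
      exact hinvP k hk _ hr
  let I : Finset ℕ := (Finset.range r).filter (fun k => nth O.roots Q.n k ∈ P)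
  have hPeq : P = ↑((Finset.range Q.n).filter (fun c => O.oid c ∈ I)) := by
    ext c
    simp only [Finset.coe_filter, Finset.mem_range, Set.mem_ofPred_eq]
    constructor
    · intro hc
      obtain ⟨m, _, e⟩ := (hP c).mp hc
      have hcn : c < Q.n := by rw [← e]; exact h.index.2.2.1 m
      exact ⟨hcn, Finset.mem_filter.mpr ⟨Finset.mem_range.mpr (hoid c hcn), (hroot c hcn).mp hc⟩⟩
    · rintro ⟨hcn, hcI⟩
      exact (hroot c hcn).mpr (Finset.mem_filter.mp hcI).2
  have hcard : B.ncard = ∑ k ∈ I, O.count Q k := by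
    rw [← Set.ncard_image_of_injective B (toPt_injective h)]
    show P.ncard = _
    rw [hPeq, Set.ncard_coe_finset,
      Finset.card_eq_sum_card_fiberwise (f := O.oid) (t := I)
        (s := (Finset.range Q.n).filter (fun c => O.oid c ∈ I))
        (fun c hc => (Finset.mem_filter.mp (Finset.mem_coe.mp hc)).2)]
    apply Finset.sum_congr rfl
    intro k hk
    rw [Orb.count_eq]
    congr 1
    ext c
    simp only [Finset.mem_filter, Finset.mem_range]
    constructor
    · rintro ⟨⟨a, _⟩, b⟩; exact ⟨a, b⟩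
    · rintro ⟨a, b⟩; exact ⟨⟨a, by rw [b]; exact hk⟩, b⟩
  have h0P : (0 : ℕ) ∈ P := (hP 0).mpr ⟨1, M.one_mem, by simp⟩
  have h0I : 0 ∈ I := by
    have := (hroot 0 hn).mp h0P
    rw [h00] at this
    refine Finset.mem_filter.mpr ⟨Finset.mem_range.mpr ?_, this⟩
    have := hoid 0 hn
    rwa [h00] at this
  rcases harith I (Finset.mem_powerset.mpr (Finset.filter_subset _ _)) h0I (by rw [← hcard]; exact hdvd1)
    with hI | hI
  · left
    rw [hI, Finset.sum_singleton, hc0] at hcard
    obtain ⟨a, ha⟩ := Set.ncard_eq_one.mp hcard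
    intro m hm
    have h1 : (⟨m, hm⟩ : M) • q0 ∈ B := ⟨⟨m, hm⟩, rfl⟩
    rw [ha] at h1 hq0
    have h2 : (⟨m, hm⟩ : M) • q0 = q0 := by
      rw [Set.mem_singleton_iff.mp h1, Set.mem_singleton_iff.mp hq0]
    have e : (⟨m, hm⟩ : M) • q0 = ((m * 1 : Q.Grp) : Q.Grp ⧸ HS Q S) := rfl
    rw [e, mul_one] at h2
    have h3 := QuotientGroup.eq.mp h2
    rw [mul_one] at h3
    simpa using Subgroup.inv_mem _ h3
  · right
    rw [hI, hsum] at hcard
    rw [h.index.1, ← hcard]
    exact hdvd2

/-- order and simplicity -/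
theorem OK.simple (h : Q.OK S) (hO : O.OK Q) (hS1 : ∀ E ∈ Q.subE, E.value Q.P.lfree ∈ S)
    (r : ℕ) (hoid : ∀ c < Q.n, O.oid c < r)
    (hc0 : O.count Q 0 = 1) (h00 : O.oid 0 = 0) (hsum : ∑ k ∈ Finset.range r, O.count Q k = Q.n)
    (harith : ∀ I ∈ (Finset.range r).powerset, 0 ∈ I → (∑ k ∈ I, O.count Q k) ∣ Q.n →
      I = {0} ∨ I = Finset.range r)
    (N : ℕ) (hub : Finite (Sg Q.val (List.range Q.P.K)) ∧ Nat.card (Sg Q.val (List.range Q.P.K)) ≤ N)
    (levels : List Lev) (hchain : chainOK Q.L [] levels) (hprod : (levels.map Lev.cnt).prod = N)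
    (p k j : ℕ) (hp : p.Prime) (hpk : p ^ k ∣ Q.n) (hN : ¬ p ^ (k + 1) ∣ N) (hN1 : 1 < N)
    (xw : List ℕ) (hxw : ∀ y ∈ xw, y < Q.P.K)
    (hxchk : ∀ c < Q.L.n, Q.L.checkRel (List.replicate (p ^ j) xw).flatten c = true)
    (Lk : Link) (hLk : Lk.OK (Q.P.words ++ [xw]) Q.P.inv Q.P.K (List.range Q.P.K) []) (hn : Lk.n = 1) :
    IsSimpleGroup Q.Grp ∧ Nat.card Q.Grp = N ∧ Function.Injective (phi h) := by
  rw [h.Sg_top] at hub
  have hfin : Finite Q.Grp := by
    have := hub.1
    exact Finite.of_injective (fun g => (⟨g, Subgroup.mem_top g⟩ : (⊤ : Subgroup Q.Grp)))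
      (fun a b hab => congrArg Subtype.val hab)
  have hub2 : Nat.card Q.Grp ≤ N := by
    have := hub.2
    rwa [Subgroup.card_top] at this
  have hlb := h.card_range_ge hfin levels hchain
  rw [hprod] at hlb
  obtain ⟨hcard, hinj⟩ := order_of_bounds (phi h) N hfin hub2 hlb
  refine ⟨?_, hcard, hinj⟩
  refine simple_of_normal_dichotomy (HS Q S) p k j hp ?_
    (h.normal_dichotomy O hO hS1 r hoid hc0 h00 hsum harith) (by rw [h.index.1]; exact hpk)
    (by rw [hcard]; exact hN) (evalW Q.val xw) ?_ (h.normalClosure_top xw Lk hLk hn) ?_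
  · intro M hM hMH
    rw [eq_bot_iff]
    intro m hm
    exact hinj (by rw [h.core M hM hMH m hm, map_one])
  · rw [← evalW_flatten_replicate]
    apply h.eq_one_of_check hinj _ _ hxchk
    intro y hy
    simp only [List.mem_flatten, List.mem_replicate] at hy
    obtain ⟨l, ⟨_, rfl⟩, hy⟩ := hy
    exact hxw y hy
  · exact (Finite.one_lt_card_iff_nontrivial).mp (by rw [hcard]; exact hN1)

end Prob

end Cfsg.Agent.Lib.Helper28.V2
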